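import Groth.Agent.L21.GorensteinCharts
import Groth.Agent.L22.Sp.Functorial
import Groth.Agent.L07.TransCM
import Groth.Agent.L22.Cyc.Mult
import Mathlib.RingTheory.LocalRing.Length
import Mathlib.RingTheory.Spectrum.Prime.Homeomorph
import Mathlib.FieldTheory.PurelyInseparable.Basic
import Mathlib.LinearAlgebra.TensorProduct.Finiteness
import Mathlib.RingTheory.TensorProduct.Free
import Mathlib.LinearAlgebra.Dimension.Constructions
import Mathlib.FieldTheory.Normal.Basic
import Mathlib.FieldTheory.IsAlgClosed.AlgebraicClosure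

/-!
Descent of cycles along finite normal field extensions.
-/

set_option autoImplicit false
set_option linter.style.haveILetI false
set_option backward.isDefEq.respectTransparency false
set_option backward.isDefEq.respectTransparency.types false

universe u

open CategoryTheory CategoryTheory.Limits AlgebraicGeometry TopologicalSpace IsLocalRing TensorProduct

noncomputable section

namespace Groth.L22.GalDesc

/-- Length of a ring is invariant under isomorphisms. -/
theorem length_ringEquiv {A B : Type*} [CommRing A] [CommRing B] (e : A ≃+* B) :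
    Module.length A A = Module.length B B := by
  apply WithBot.coe_injective
  rw [Module.coe_length, Module.coe_length]
  exact Order.krullDim_eq_of_orderIso e.idealComapOrderIso.symm

/-- The length of a purely inseparable extension after tensoring with a field. -/
theorem exists_length_dvd (L K M : Type u) [Field L] [Field K] [Field M] [Algebra L K] [Algebra L M]
    [FiniteDimensional L M] [IsPurelyInseparable L M] :
    IsLocalRing (K ⊗[L] M) ∧ Subsingleton (PrimeSpectrum (K ⊗[L] M)) ∧
      ∃ a : ℕ, Module.length (K ⊗[L] M) (K ⊗[L] M) = a ∧ a ∣ Module.finrank L M := by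
  classical
  have hsub : Subsingleton (PrimeSpectrum (K ⊗[L] M)) :=
    (PrimeSpectrum.isHomeomorph_comap_of_isPurelyInseparable L M K).injective.subsingleton
  have : IsLocalRing (K ⊗[L] M) := by
    obtain ⟨m, hm⟩ := Ideal.exists_maximal (K ⊗[L] M)
    exact IsLocalRing.of_unique_max_ideal ⟨m, hm, fun m' hm' =>
      congrArg PrimeSpectrum.asIdeal (Subsingleton.elim (⟨m', hm'.isPrime⟩ : PrimeSpectrum (K ⊗[L] M)) ⟨m, hm.isPrime⟩)⟩
  have : IsLocalHom (algebraMap K (K ⊗[L] M)) := ⟨fun x hx => by
    refine Ne.isUnit fun h => ?_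
    rw [h, map_zero] at hx
    exact not_isUnit_zero hx⟩
  refine ⟨‹IsLocalRing (K ⊗[L] M)›, hsub, ?_⟩
  have h := IsLocalRing.length_restrictScalars K (K ⊗[L] M) (K ⊗[L] M)
  rw [Module.length_eq_finrank K (K ⊗[L] M), Module.finrank_baseChange] at h
  set a := Module.length (K ⊗[L] M) (K ⊗[L] M)
  set b := Module.length (IsLocalRing.ResidueField K) (IsLocalRing.ResidueField (K ⊗[L] M))
  have hp : Module.finrank L M ≠ 0 := Module.finrank_pos.ne'
  have ha0 : a ≠ 0 := fun h0 => by rw [h0, zero_mul] at h; exact hp (by exact_mod_cast h)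
  have ha : a ≠ ⊤ := fun ht => by
    rw [ht] at h
    rcases eq_or_ne b 0 with hb | hb
    · rw [hb, mul_zero] at h; exact hp (by exact_mod_cast h)
    · rw [ENat.top_mul hb] at h; exact ENat.coe_ne_top _ h
  have hb : b ≠ ⊤ := fun ht => by rw [ht, ENat.mul_top ha0] at h; exact ENat.coe_ne_top _ h
  obtain ⟨a', ha'⟩ := ENat.ne_top_iff_exists.mp ha
  obtain ⟨b', hb'⟩ := ENat.ne_top_iff_exists.mp hb
  rw [← ha', ← hb', ← Nat.cast_mul, Nat.cast_inj] at h
  exact ⟨a', ha'.symm, Dvd.intro _ h.symm⟩

/-- The stalk of the spectrum of a ring with one prime. -/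
theorem length_stalk_of_iso_spec {F : Scheme.{u}} {A : Type u} [CommRing A] [Subsingleton (PrimeSpectrum A)]
    (e : F ≅ Spec (CommRingCat.of A)) (c : F) :
    Module.length (F.presheaf.stalk c) (F.presheaf.stalk c) = Module.length A A := by
  haveI : IsAffine F := .of_isIso e.hom
  haveI : Subsingleton F := e.hom.homeomorph.injective.subsingleton (β := PrimeSpectrum A)
  have hU : IsAffineOpen (⊤ : F.Opens) := isAffineOpen_top F
  letI := F.presheaf.algebra_section_stalk (⟨c, trivial⟩ : (⊤ : F.Opens))
  haveI : IsLocalization.AtPrime (F.presheaf.stalk c) (hU.primeIdealOf ⟨c, trivial⟩).asIdeal :=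
    hU.isLocalization_stalk ⟨c, trivial⟩
  let eA : Γ(F, ⊤) ≃+* A := ((asIso e.inv.appTop) ≪≫ Scheme.ΓSpecIso (CommRingCat.of A)).commRingCatIsoToRingEquiv
  haveI : Subsingleton (PrimeSpectrum Γ(F, ⊤)) := (PrimeSpectrum.comapEquiv eA).toEquiv.subsingleton
  let eS := IsLocalization.atUnits Γ(F, ⊤) (hU.primeIdealOf ⟨c, trivial⟩).asIdeal.primeCompl
    (S := F.presheaf.stalk c) (fun t ht => by
      by_contra hu
      obtain ⟨m, hm, htm⟩ := Ideal.exists_le_maximal _ (Ideal.span_singleton_ne_top hu)
      refine ht ?_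
      rw [Subsingleton.elim (hU.primeIdealOf ⟨c, trivial⟩) ⟨m, hm.isPrime⟩]
      exact htm (Ideal.mem_span_singleton_self t))
  exact (length_ringEquiv eS.toRingEquiv).symm.trans (length_ringEquiv eA)

variable {k k' : Type u} [Field k] [Field k'] [Algebra k k'] {X : Scheme.{u}} (f : X ⟶ Spec (CommRingCat.of k))

abbrev sp (k k' : Type u) [Field k] [Field k'] [Algebra k k'] : Spec (CommRingCat.of k') ⟶ Spec (CommRingCat.of k) :=
  Spec.map (CommRingCat.ofHom (algebraMap k k'))

/-- The inseparable degree is divisible by the multiplicities. -/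
theorem exists_mult_dvd [FiniteDimensional k k'] (x' : ↥(pullback f (sp k k'))) :
    ∃ a : ℕ, Groth.L22.Cyc.mult (pullback.fst f (sp k k')) x' = a ∧ a ∣ Field.finInsepDegree k k' ∧ a ≠ 0 := by
  let L := separableClosure k k'
  let u : Spec (CommRingCat.of k') ⟶ Spec (CommRingCat.of L) := Spec.map (CommRingCat.ofHom (algebraMap L k'))
  let v : Spec (CommRingCat.of L) ⟶ Spec (CommRingCat.of k) := sp k L
  have huv : sp k k' = u ≫ v := by
    rw [← Spec.map_comp, ← CommRingCat.ofHom_comp, ← IsScalarTower.algebraMap_eq]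
  haveI : Etale v := by
    rw [HasRingHomProperty.Spec_iff (P := @Etale)]
    show (algebraMap k L).Etale
    haveI : Algebra.FormallyEtale k L := Algebra.FormallyEtale.of_isSeparable k L
    haveI : Algebra.FinitePresentation k L := Algebra.FinitePresentation.of_finiteType.1 inferInstance
    exact RingHom.etale_algebraMap.2 ⟨inferInstance, inferInstance⟩
  let q := pullback.fst f v
  let r : pullback f (sp k k') ⟶ pullback f v :=
    pullback.map f (sp k k') f v (𝟙 X) u (𝟙 _) (by simp) (by simp [huv])
  have hp : r ≫ q = pullback.fst f (sp k k') := (pullback.lift_fst _ _ _).trans (Category.comp_id _)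
  have sq : IsPullback r (pullback.snd f (sp k k')) (pullback.snd f v) u := by
    refine (IsPullback.of_bot ?_ ?_ (IsPullback.of_hasPullback f v).flip).flip
    · rw [show r ≫ pullback.fst f v = _ from hp, ← huv]
      exact (IsPullback.of_hasPullback f (sp k k')).flip
    · exact (pullback.lift_snd _ _ _).symm
  let y := r x'
  let κ := (pullback f v).residueField y
  let w : Spec κ ⟶ Spec (CommRingCat.of L) := (pullback f v).fromSpecResidueField y ≫ pullback.snd f v
  letI : Algebra L κ := (Spec.preimage w).hom.toAlgebra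
  have hw : w = Spec.map (CommRingCat.ofHom (algebraMap L κ)) := (Spec.map_preimage w).symm
  let G := pullback r ((pullback f v).fromSpecResidueField y)
  have sqG : IsPullback (pullback.snd r ((pullback f v).fromSpecResidueField y))
      (pullback.fst r ((pullback f v).fromSpecResidueField y) ≫ pullback.snd f (sp k k')) w u :=
    (IsPullback.of_hasPullback r ((pullback f v).fromSpecResidueField y)).flip.paste_vert sq
  let e : G ≅ Spec (CommRingCat.of (κ ⊗[L] k')) :=
    (sqG.isoPullback ≪≫ pullback.congrHom hw rfl) ≪≫ pullbackSpecIso L κ k'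
  haveI : IsPurelyInseparable L k' := separableClosure.isPurelyInseparable k k'
  haveI : FiniteDimensional L k' := FiniteDimensional.right k L k'
  obtain ⟨_, _, a, ha, hdvd⟩ := exists_length_dvd L κ k'
  refine ⟨a, ?_, hdvd, fun h0 => ?_⟩
  · have e1 : Groth.L22.Cyc.fibIdeal (pullback.fst f (sp k k')) x' = Groth.L22.Cyc.fibIdeal r x' := by
      refine (Groth.L07.AssTensor.fibIdeal_congr hp x').symm.trans ?_
      show Ideal.map ((r ≫ q).stalkMap x').hom (maximalIdeal _) = Ideal.map (r.stalkMap x').hom (maximalIdeal _)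
      rw [Scheme.Hom.stalkMap_comp, CommRingCat.hom_comp, ← Ideal.map_map]
      erw [Groth.L21.GorensteinCharts.map_maximalIdeal_of_etale q (r x')]
    have e2 : Groth.L22.Cyc.mult (pullback.fst f (sp k k')) x' = Groth.L22.Cyc.mult r x' := by
      rw [Groth.L22.Cyc.mult, Groth.L22.Cyc.mult, e1]
    obtain ⟨eQ⟩ := Groth.L07.TransCM.exists_fibreStalk_quotientEquiv r x'
    rw [e2, Groth.L22.Cyc.mult, ← ha]
    letI : Algebra ((pullback f (sp k k')).presheaf.stalk x')
        ((pullback f (sp k k')).presheaf.stalk x' ⧸ Groth.L22.Cyc.fibIdeal r x') := Ideal.Quotient.algebra _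
    rw [Module.length_eq_of_surjective (R := (pullback f (sp k k')).presheaf.stalk x' ⧸ Groth.L22.Cyc.fibIdeal r x')
      (S := (pullback f (sp k k')).presheaf.stalk x') Ideal.Quotient.mk_surjective]
    exact (length_ringEquiv eQ).trans (length_stalk_of_iso_spec e (r.asFiber x'))
  · subst h0
    rw [Nat.cast_zero, Module.length_eq_zero_iff] at ha
    exact false_of_nontrivial_of_subsingleton (κ ⊗[L] k')

/-- The automorphism of the base change given by an automorphism of the extension. -/
def act (σ : k' ≃ₐ[k] k') : pullback f (sp k k') ⟶ pullback f (sp k k') :=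
  pullback.map _ _ _ _ (𝟙 _) (Spec.map (CommRingCat.ofHom σ.toAlgHom.toRingHom)) (𝟙 _) (by simp) (by
    rw [Category.comp_id, ← Spec.map_comp, ← CommRingCat.ofHom_comp]
    exact congrArg (fun t => Spec.map (CommRingCat.ofHom t)) (σ.toAlgHom.comp_algebraMap).symm)

theorem act_fst (σ : k' ≃ₐ[k] k') : act f σ ≫ pullback.fst f (sp k k') = pullback.fst f (sp k k') :=
  (pullback.lift_fst _ _ _).trans (Category.comp_id _)

theorem act_snd (σ : k' ≃ₐ[k] k') : act f σ ≫ pullback.snd f (sp k k') =
    pullback.snd f (sp k k') ≫ Spec.map (CommRingCat.ofHom σ.toAlgHom.toRingHom) := pullback.lift_snd _ _ _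

theorem spec_symm (σ τ : k' ≃ₐ[k] k') (h : ∀ x, σ (τ x) = x := by simp) :
    Spec.map (CommRingCat.ofHom σ.toAlgHom.toRingHom) ≫ Spec.map (CommRingCat.ofHom τ.toAlgHom.toRingHom) = 𝟙 _ := by
  rw [← Spec.map_comp, ← CommRingCat.ofHom_comp,
    show σ.toAlgHom.toRingHom.comp τ.toAlgHom.toRingHom = RingHom.id k' from RingHom.ext h]
  exact Spec.map_id _

instance (σ : k' ≃ₐ[k] k') : IsIso (act f σ) := by
  refine ⟨act f σ.symm, ?_, ?_⟩ <;> apply pullback.hom_ext <;>
    simp only [Category.assoc, act_fst, act_snd, Category.id_comp] <;>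
    rw [reassoc_of% (act_snd f _), spec_symm _ _ (fun x => by simp), Category.comp_id]

/-- The automorphisms are transitive on the fibres. -/
theorem exists_act [FiniteDimensional k k'] [Normal k k'] (x' y' : ↥(pullback f (sp k k')))
    (h : pullback.fst f (sp k k') x' = pullback.fst f (sp k k') y') : ∃ σ : k' ≃ₐ[k] k', act f σ x' = y' := by
  let P := pullback f (sp k k')
  let p := pullback.fst f (sp k k')
  obtain ⟨z, hz1, hz2⟩ := Scheme.Pullback.exists_preimage_pullback
    (f := P.fromSpecResidueField x' ≫ p) (g := P.fromSpecResidueField y' ≫ p)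
    (closedPoint (P.residueField x')) (closedPoint (P.residueField y')) (by
      rw [Scheme.Hom.comp_apply, Scheme.Hom.comp_apply, Scheme.fromSpecResidueField_apply,
        Scheme.fromSpecResidueField_apply]
      exact h)
  let Z := pullback (P.fromSpecResidueField x' ≫ p) (P.fromSpecResidueField y' ≫ p)
  let Ω := AlgebraicClosure (Z.residueField z)
  let s : Spec (CommRingCat.of Ω) ⟶ Z :=
    Spec.map (CommRingCat.ofHom (algebraMap (Z.residueField z) Ω)) ≫ Z.fromSpecResidueField z
  let a1 : Spec (CommRingCat.of Ω) ⟶ P := s ≫ pullback.fst _ _ ≫ P.fromSpecResidueField x'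
  let a2 : Spec (CommRingCat.of Ω) ⟶ P := s ≫ pullback.snd _ _ ≫ P.fromSpecResidueField y'
  have ha : a1 ≫ p = a2 ≫ p := by simp only [a1, a2, Category.assoc, pullback.condition]
  let ψ1 : k' →+* Ω := (Spec.preimage (a1 ≫ pullback.snd f (sp k k'))).hom
  let ψ2 : k' →+* Ω := (Spec.preimage (a2 ≫ pullback.snd f (sp k k'))).hom
  have hk : ψ1.comp (algebraMap k k') = ψ2.comp (algebraMap k k') := by
    have h1 : Spec.map (CommRingCat.ofHom (ψ1.comp (algebraMap k k'))) =
        Spec.map (CommRingCat.ofHom (ψ2.comp (algebraMap k k'))) := by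
      rw [CommRingCat.ofHom_comp, CommRingCat.ofHom_comp, Spec.map_comp, Spec.map_comp,
        show CommRingCat.ofHom ψ1 = Spec.preimage (a1 ≫ pullback.snd f (sp k k')) from rfl,
        show CommRingCat.ofHom ψ2 = Spec.preimage (a2 ≫ pullback.snd f (sp k k')) from rfl,
        Spec.map_preimage, Spec.map_preimage, Category.assoc, Category.assoc, ← pullback.condition,
        ← Category.assoc, ← Category.assoc, ha]
      simp only [Category.assoc]
      exact congrArg (a2 ≫ ·) pullback.condition
    exact congrArg CommRingCat.Hom.hom (Spec.map_injective h1)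
  letI : Algebra k' Ω := ψ1.toAlgebra
  letI : Algebra k Ω := (ψ1.comp (algebraMap k k')).toAlgebra
  haveI : IsScalarTower k k' Ω := IsScalarTower.of_algebraMap_eq' rfl
  let φ : k' →ₐ[k] Ω := { ψ2 with commutes' := fun r => (RingHom.congr_fun hk r).symm }
  let σ : k' ≃ₐ[k] k' := φ.restrictNormal' k'
  have hσ : ψ1.comp σ.toAlgHom.toRingHom = ψ2 :=
    RingHom.ext fun t => φ.restrictNormal_commutes k' t
  refine ⟨σ, ?_⟩
  have e : a1 ≫ act f σ = a2 := by
    apply pullback.hom_ext
    · rw [Category.assoc, act_fst]; exact ha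
    · rw [Category.assoc, act_snd, ← Category.assoc,
        ← Spec.map_preimage (a1 ≫ pullback.snd f (sp k k')), ← Spec.map_comp,
        ← Spec.map_preimage (a2 ≫ pullback.snd f (sp k k'))]
      exact congrArg (fun t => Spec.map (CommRingCat.ofHom t)) hσ
  have h1 : a1 (closedPoint Ω) = x' := by
    simp only [a1, Scheme.Hom.comp_apply, Scheme.fromSpecResidueField_apply]
  have h2 : a2 (closedPoint Ω) = y' := by
    simp only [a2, Scheme.Hom.comp_apply, Scheme.fromSpecResidueField_apply]
  rw [← h1, ← h2, ← e]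
  rfl

theorem mult_act (σ : k' ≃ₐ[k] k') (x' : ↥(pullback f (sp k k'))) :
    Groth.L22.Cyc.mult (pullback.fst f (sp k k')) (act f σ x') =
      Groth.L22.Cyc.mult (pullback.fst f (sp k k')) x' := by
  have hb : Function.Bijective ((act f σ).stalkMap x').hom := ConcreteCategory.bijective_of_isIso _
  symm
  refine Groth.L22.Sp.mult_fibre (pullback.fst f (sp k k')) (pullback.fst f (sp k k')) (act f σ) (𝟙 X) ?_ x' ?_
  · rw [Category.comp_id, act_fst]
  · rw [(RingHom.injective_iff_ker_eq_bot _).1 hb.1]; exact bot_le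

/-- Existence and uniqueness of the descended cycle. -/
theorem existsUnique_descent [FiniteDimensional k k'] [Normal k k']
    (Z' : AlgebraicCycle (pullback f (sp k k')) ℤ)
    (hZ' : ∀ (σ : k' ≃ₐ[k] k') (x' : ↥(pullback f (sp k k'))), Z' (act f σ x') = Z' x') :
    ∃! Z : AlgebraicCycle X ℤ, ∀ x' : ↥(pullback f (sp k k')),
      (Field.finInsepDegree k k' : ℤ) * Z' x' =
        Z (pullback.fst f (sp k k') x') * ((Groth.L22.Cyc.mult (pullback.fst f (sp k k')) x').toNat : ℤ) := by
  classical
  let p := pullback.fst f (sp k k')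
  haveI : Surjective (sp k k') := by
    haveI : Nonempty (Spec (CommRingCat.of k')) := inferInstance
    exact ⟨fun t => ⟨closedPoint k', Subsingleton.elim (α := PrimeSpectrum k) _ t⟩⟩
  haveI : Surjective p := MorphismProperty.pullback_fst (P := @Surjective) _ _ inferInstance
  haveI : IsFinite (sp k k') := by
    rw [HasAffineProperty.iff_of_isAffine (P := @IsFinite)]
    refine ⟨inferInstance, ?_⟩
    rw [RingHom.finite_respectsIso.arrow_mk_iso_iff (arrowIsoΓSpecOfIsAffine (CommRingCat.ofHom (algebraMap k k'))).symm]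
    exact RingHom.finite_algebraMap.2 inferInstance
  haveI : IsFinite p := MorphismProperty.pullback_fst (P := @IsFinite) _ _ inferInstance
  choose s hs using fun x => p.surjective x
  choose a ha hdvd ha0 using exists_mult_dvd (k' := k') f
  choose b hb using hdvd
  let F : X → ℤ := fun x => (b (s x) : ℤ) * Z' (s x)
  obtain ⟨Z, hZ⟩ := Groth.L22.C1.exists_cycle F fun x => by
    obtain ⟨V, hV, hxV, -⟩ := exists_isAffineOpen_mem_and_subset (x := x) (U := ⊤) trivial
    refine ⟨V, hxV, ((Z'.locallyFiniteSupport.finite_inter_support_of_isCompact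
      (p.isCompact_preimage hV.isCompact)).image p).subset ?_⟩
    rintro ξ ⟨h, hξV⟩
    refine ⟨s ξ, ⟨?_, fun h0 => h (mul_eq_zero_of_right _ h0)⟩, hs ξ⟩
    show p (s ξ) ∈ V
    rw [hs]; exact hξV
  refine ⟨Z, fun x' => ?_, fun Z₂ h₂ => ?_⟩
  · show _ = Z (p x') * _
    obtain ⟨σ, hσ⟩ := exists_act f (s (p x')) x' (hs _)
    have hmul : Groth.L22.Cyc.mult p x' = Groth.L22.Cyc.mult p (s (p x')) :=
      (congrArg (Groth.L22.Cyc.mult p) hσ.symm).trans (mult_act f σ _)
    have hval : Z' x' = Z' (s (p x')) := (congrArg (fun t => Z' t) hσ.symm).trans (hZ' σ _)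
    rw [hmul, ha, hval, hZ]
    show _ = (b (s (p x')) : ℤ) * Z' (s (p x')) * _
    rw [hb (s (p x'))]
    simp only [ENat.toNat_coe]
    push_cast
    ring
  · ext x
    have h := h₂ (s x)
    rw [show pullback.fst f (sp k k') (s x) = x from hs x, ha, ENat.toNat_coe, hb (s x)] at h
    rw [hZ]
    show _ = (b (s x) : ℤ) * Z' (s x)
    push_cast at h
    have hne : (a (s x) : ℤ) ≠ 0 := by exact_mod_cast ha0 _
    apply mul_right_cancel₀ hne
    rw [← h]; ring

end Groth.L22.GalDesc
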